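import Mathlib

/-!
# Points over Laurent series of covers split by a tame substitution (helper5)
-/

set_option autoImplicit false

universe u

open CategoryTheory CategoryTheory.Limits AlgebraicGeometry HahnSeries

namespace Groth.Agent.Lib.LaurentTame

variable {R : Type u} [CommRing R]

theorem coeff_map {S : Type u} [CommRing S] (π : R →+* S) (ρ : LaurentSeries R →+* LaurentSeries S)
    (hρ : ρ.comp (HahnSeries.ofPowerSeries ℤ R) = (HahnSeries.ofPowerSeries ℤ S).comp (PowerSeries.map π))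
    (x : LaurentSeries R) (m : ℤ) : (ρ x).coeff m = π (x.coeff m) := by
  have hps : ∀ g : PowerSeries R, ρ (HahnSeries.ofPowerSeries ℤ R g) = HahnSeries.ofPowerSeries ℤ S (PowerSeries.map π g) :=
    fun g => RingHom.congr_fun hρ g
  have h1 : ρ (single (1 : ℤ) (1 : R)) = single (1 : ℤ) (1 : S) := by
    have := hps PowerSeries.X
    rwa [PowerSeries.map_X, HahnSeries.ofPowerSeries_X, HahnSeries.ofPowerSeries_X] at this
  have hnat : ∀ n : ℕ, ρ (single (n : ℤ) (1 : R)) = single (n : ℤ) (1 : S) := by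
    intro n
    have e : ∀ (A : Type u) [CommRing A], (single (n : ℤ) (1 : A)) = (single (1 : ℤ) (1 : A)) ^ n := by
      intro A _
      rw [HahnSeries.single_pow, one_pow, nsmul_one]
    rw [e R, e S, map_pow, h1]
  have hinv : ∀ n : ℕ, ρ (single (-(n : ℤ)) (1 : R)) = single (-(n : ℤ)) (1 : S) := by
    intro n
    have e : ∀ (A : Type u) [CommRing A], (single (-(n : ℤ)) (1 : A)) * single (n : ℤ) (1 : A) = 1 := by
      intro A _
      rw [HahnSeries.single_mul_single, neg_add_cancel, one_mul, HahnSeries.single_zero_one]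
    have h2 := congrArg ρ (e R)
    rw [map_mul, hnat, map_one ρ] at h2
    calc ρ (single (-(n : ℤ)) (1 : R))
        = ρ (single (-(n : ℤ)) (1 : R)) * (single (-(n : ℤ)) (1 : S) * single (n : ℤ) (1 : S)) := by rw [e S, mul_one]
      _ = single (-(n : ℤ)) (1 : S) := by
        rw [mul_left_comm, h2, mul_one]
  have hall : ∀ z : ℤ, ρ (single z (1 : R)) = single z (1 : S) := by
    intro z
    obtain ⟨n, rfl | rfl⟩ := z.eq_nat_or_neg
    · exact hnat n
    · exact hinv n
  conv_lhs => rw [← LaurentSeries.single_order_mul_powerSeriesPart x, map_mul, hall, hps]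
  conv_rhs => rw [← LaurentSeries.single_order_mul_powerSeriesPart x]
  obtain ⟨a, rfl⟩ : ∃ a, m = a + x.order := ⟨m - x.order, (sub_add_cancel m x.order).symm⟩
  rw [coeff_single_mul_add, coeff_single_mul_add, one_mul, one_mul]
  obtain ⟨n, rfl | rfl⟩ := a.eq_nat_or_neg
  · rw [show ((n : ℕ) : ℤ) = n from rfl, HahnSeries.ofPowerSeries_apply_coeff, PowerSeries.coeff_map,
      HahnSeries.ofPowerSeries_apply_coeff]
  · rcases Nat.eq_zero_or_pos n with rfl | hn
    · simp only [Nat.cast_zero, neg_zero]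
      rw [show (0 : ℤ) = ((0 : ℕ) : ℤ) from rfl, HahnSeries.ofPowerSeries_apply_coeff, PowerSeries.coeff_map,
        HahnSeries.ofPowerSeries_apply_coeff]
    · have hneg : ∀ (A : Type u) [CommRing A] (g : PowerSeries A), (HahnSeries.ofPowerSeries ℤ A g).coeff (-(n : ℤ)) = 0 := by
        intro A _ g
        rw [HahnSeries.ofPowerSeries_apply]
        refine HahnSeries.embDomain_of_notMem_range ?_
        rintro ⟨j, hj⟩
        have : (j : ℤ) = -(n : ℤ) := hj
        omega
      rw [hneg S, hneg R, map_zero]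

/-- The automorphism `t ↦ ζ t`. -/
noncomputable def twist (ζ : Rˣ) : LaurentSeries R →+* LaurentSeries R where
  toFun x := ⟨fun m => ↑(ζ ^ m) * x.coeff m, x.isPWO_support.mono fun m hm h => hm (by
    show ↑(ζ ^ m) * x.coeff m = 0
    rw [h, mul_zero])⟩
  map_one' := by
    ext m
    show ↑(ζ ^ m) * (1 : LaurentSeries R).coeff m = _
    by_cases hm : m = 0
    · subst hm; simp
    · simp [HahnSeries.coeff_one, hm]
  map_mul' x y := by
    ext m
    show ↑(ζ ^ m) * (x * y).coeff m = _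
    rw [HahnSeries.coeff_mul, HahnSeries.coeff_mul, Finset.mul_sum]
    refine (Finset.sum_congr ?_ fun ij hij => ?_)
    · ext ij
      rw [Finset.mem_antidiagonal, Finset.mem_antidiagonal]
      simp only [HahnSeries.mem_support, ne_eq, Units.mul_right_eq_zero]
    · have h := (Finset.mem_antidiagonal.1 hij).2.2
      show _ = (↑(ζ ^ ij.1) * x.coeff ij.1) * (↑(ζ ^ ij.2) * y.coeff ij.2)
      rw [← h, zpow_add, Units.val_mul]
      ring
  map_zero' := by
    ext m
    show ↑(ζ ^ m) * (0 : LaurentSeries R).coeff m = _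
    simp
  map_add' x y := by
    ext m
    show ↑(ζ ^ m) * (x + y).coeff m = _
    rw [HahnSeries.coeff_add, HahnSeries.coeff_add, mul_add]

theorem coeff_twist (ζ : Rˣ) (x : LaurentSeries R) (m : ℤ) : (twist ζ x).coeff m = ↑(ζ ^ m) * x.coeff m := rfl

theorem eq_zero_or_one_of_sq {A : Type u} [CommRing A] [NoZeroDivisors A] {a : A} (h : IsIdempotentElem a) :
    a = 0 ∨ a = 1 := by
  rcases eq_zero_or_eq_zero_of_mul_eq_zero (show a * (a - 1) = 0 by rw [mul_sub, h.eq, mul_one, sub_self]) with h0 | h1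
  · exact Or.inl h0
  · exact Or.inr (sub_eq_zero.1 h1)

theorem eq_zero_or_one_of_idem [IsLocalRing R] (e : LaurentSeries R) (he : e * e = e) : e = 0 ∨ e = 1 := by
  classical
  let φ : ∀ {S : Type u} [CommRing S], (R →+* S) → LaurentSeries R →+* LaurentSeries S := fun {S} _ f =>
    { toFun := fun x => ⟨fun m => f (x.coeff m), x.isPWO_support.mono fun m hm h => hm (by
        show f (x.coeff m) = 0
        rw [h, map_zero])⟩
      map_one' := by
        ext m
        show f ((1 : LaurentSeries R).coeff m) = _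
        rw [HahnSeries.coeff_one, HahnSeries.coeff_one]
        split <;> simp
      map_mul' := fun x y => by
        ext m
        show f ((x * y).coeff m) = _
        rw [HahnSeries.coeff_mul, map_sum, HahnSeries.coeff_mul]
        refine (Finset.sum_subset_zero_on_sdiff (fun ij hij => ?_) (fun ij hij => ?_) (fun ij hij => ?_)).symm
        · rw [Finset.mem_antidiagonal] at hij ⊢
          exact ⟨fun h => hij.1 (show f (x.coeff ij.1) = 0 by rw [h, map_zero]),
            fun h => hij.2.1 (show f (y.coeff ij.2) = 0 by rw [h, map_zero]), hij.2.2⟩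
        · rw [Finset.mem_sdiff, Finset.mem_antidiagonal, Finset.mem_antidiagonal] at hij
          rw [map_mul]
          by_cases h1 : f (x.coeff ij.1) = 0
          · rw [h1, zero_mul]
          · by_cases h2 : f (y.coeff ij.2) = 0
            · rw [h2, mul_zero]
            · exact absurd ⟨h1, h2, hij.1.2.2⟩ hij.2
        · exact (map_mul f _ _).symm
      map_zero' := by
        ext m
        exact map_zero f
      map_add' := fun x y => by
        ext m
        exact map_add f _ _ }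
  suffices H : ∀ e : LaurentSeries R, e * e = e → (∀ m, e.coeff m ∈ IsLocalRing.maximalIdeal R) → e = 0 by
    have hk : IsIdempotentElem (φ (IsLocalRing.residue R) e) := by
      show _ * _ = _
      rw [← map_mul, he]
    rcases (eq_zero_or_one_of_sq hk) with h0 | h1
    · refine Or.inl (H e he fun m => ?_)
      rw [← IsLocalRing.residue_eq_zero_iff]
      exact congrArg (fun z => HahnSeries.coeff z m) h0
    · refine Or.inr (sub_eq_zero.1 (H (1 - e) (by rw [mul_sub, sub_mul, sub_mul, one_mul, mul_one, one_mul, he, sub_self, sub_zero]) fun m => ?_)).symm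
      rw [← IsLocalRing.residue_eq_zero_iff]
      have h2 : φ (IsLocalRing.residue R) (1 - e) = 0 := by rw [map_sub, h1, map_one, sub_self]
      exact congrArg (fun z => HahnSeries.coeff z m) h2
  intro e he hmax
  have hnil : ∀ m, IsNilpotent (e.coeff m) := by
    intro m
    rw [nilpotent_iff_mem_prime]
    intro P hP
    have hk : IsIdempotentElem (φ (Ideal.Quotient.mk P) e) := by
      show _ * _ = _
      rw [← map_mul, he]
    haveI := hP
    rcases (eq_zero_or_one_of_sq hk) with h0 | h1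
    · exact Ideal.Quotient.eq_zero_iff_mem.1 (congrArg (fun z => HahnSeries.coeff z m) h0)
    · exfalso
      have h2 : Ideal.Quotient.mk P (e.coeff 0) = 1 :=
        (congrArg (fun z => HahnSeries.coeff z 0) h1).trans (by simp)
      have h3 : Ideal.Quotient.mk P (e.coeff 0 - 1) = 0 := by rw [map_sub, h2, map_one, sub_self]
      refine (IsLocalRing.maximalIdeal.isMaximal R).ne_top ((Ideal.eq_top_iff_one _).2 ?_)
      have := sub_mem (hmax 0) (IsLocalRing.le_maximalIdeal hP.ne_top (Ideal.Quotient.eq_zero_iff_mem.1 h3))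
      simpa using this
  let s : Finset ℤ := Finset.Icc e.order 0
  let 𝔟 : Ideal R := Ideal.span (↑(s.image e.coeff))
  have hneg : ∀ m : ℤ, m ≤ 0 → e.coeff m ∈ 𝔟 := by
    intro m hm
    by_cases h : e.coeff m = 0
    · rw [h]; exact zero_mem _
    · refine Ideal.subset_span (Finset.mem_image.2 ⟨m, ?_, rfl⟩)
      exact Finset.mem_Icc.2 ⟨HahnSeries.order_le_of_coeff_ne_zero h, hm⟩
  have hb : ∀ m, e.coeff m ∈ 𝔟 := by
    suffices h : ∀ (N : ℕ) (m : ℤ), m ≤ N → e.coeff m ∈ 𝔟 from fun m => h m.toNat m (Int.self_le_toNat m)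
    intro N
    induction N with
    | zero => exact fun m hm => hneg m hm
    | succ N ih =>
      intro m hm
      rw [← he, HahnSeries.coeff_mul]
      refine Ideal.sum_mem _ fun ij hij => ?_
      have h := (Finset.mem_antidiagonal.1 hij).2.2
      by_cases h1 : ij.1 ≤ N
      · exact Ideal.mul_mem_right _ _ (ih _ h1)
      · exact Ideal.mul_mem_left _ _ (hneg _ (by omega))
  obtain ⟨k, hk⟩ : IsNilpotent 𝔟 := by
    have hle : 𝔟 ≤ (⊥ : Ideal R).radical := Ideal.span_le.2 fun a ha => by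
      obtain ⟨m, -, rfl⟩ := Finset.mem_image.1 ha
      exact hnil m
    obtain ⟨n, hn⟩ := Ideal.exists_pow_le_of_le_radical_of_fg hle ⟨_, rfl⟩
    exact ⟨n, le_bot_iff.1 hn⟩
  have hpow : ∀ (k : ℕ) (m : ℤ), e.coeff m ∈ 𝔟 ^ k := by
    intro k
    induction k with
    | zero => intro m; rw [pow_zero, Ideal.one_eq_top]; trivial
    | succ k ih =>
      intro m
      rw [← he, HahnSeries.coeff_mul, pow_succ]
      exact Ideal.sum_mem _ fun ij _ => Ideal.mul_mem_mul (ih _) (hb _)
  ext m
  have := hpow k m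
  rw [hk] at this
  simpa using this

theorem preconnectedSpace_spec {A : CommRingCat.{u}} (h : ∀ e : A, e * e = e → e = 0 ∨ e = 1) :
    PreconnectedSpace ↥(Spec A) := by
  refine preconnectedSpace_iff_clopen.2 fun s hs => ?_
  obtain ⟨e, he, rfl⟩ := PrimeSpectrum.exists_idempotent_basicOpen_eq_of_isClopen (R := A) hs
  rcases h e he with rfl | rfl
  · left
    simp
    rfl
  · right
    simp
    rfl

theorem exists_index {T Y : Scheme.{u}} [PreconnectedSpace ↥T] [Nonempty ↥T] {n : ℕ} (g : T ⟶ Y)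
    (w : T ⟶ ∐ fun _ : Fin n => Y) (hw : w ≫ Sigma.desc (fun _ : Fin n => 𝟙 Y) = g) :
    ∃ i, w = g ≫ Sigma.ι (fun _ : Fin n => Y) i := by
  obtain ⟨t₀⟩ := (inferInstance : Nonempty ↥T)
  let O : Fin n → T.Opens := fun i => w ⁻¹ᵁ (Sigma.ι (fun _ : Fin n => Y) i).opensRange
  have hcov : ∀ t, ∃ i, t ∈ O i := fun t => by
    obtain ⟨i, y, hy⟩ := (sigmaOpenCover (fun _ : Fin n => Y)).exists_eq (w.base t)
    exact ⟨i, y, hy⟩
  obtain ⟨i, hi⟩ := hcov t₀
  have htop : ∀ t, t ∈ O i := by
    by_contra hne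
    push Not at hne
    obtain ⟨t, ht⟩ := hne
    let V : T.Opens := ⨆ j : {j : Fin n // j ≠ i}, O j.1
    obtain ⟨z, -, hzi, hzV⟩ := isPreconnected_univ (O i : Set ↥T) (V : Set ↥T) (O i).2 V.2
      (fun z _ => by
        obtain ⟨j, hj⟩ := hcov z
        by_cases hji : j = i
        · exact Or.inl (hji ▸ hj)
        · exact Or.inr (TopologicalSpace.Opens.mem_iSup.2 ⟨⟨j, hji⟩, hj⟩))
      ⟨t₀, trivial, hi⟩
      ⟨t, trivial, by
        obtain ⟨j, hj⟩ := hcov t
        exact TopologicalSpace.Opens.mem_iSup.2 ⟨⟨j, fun e => ht (e ▸ hj)⟩, hj⟩⟩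
    obtain ⟨⟨j, hji⟩, hzj⟩ := TopologicalSpace.Opens.mem_iSup.1 hzV
    exact (disjoint_opensRange_sigmaι (fun _ : Fin n => Y) i j (Ne.symm hji)).le_bot
      (show w.base z ∈ (Sigma.ι (fun _ : Fin n => Y) i).opensRange ⊓ (Sigma.ι (fun _ : Fin n => Y) j).opensRange from
        ⟨hzi, hzj⟩)
  have hrange : Set.range w.base ⊆ Set.range (Sigma.ι (fun _ : Fin n => Y) i).base := by
    rintro _ ⟨t, rfl⟩
    exact htop t
  refine ⟨i, ?_⟩
  have hl := IsOpenImmersion.lift_fac (Sigma.ι (fun _ : Fin n => Y) i) w hrange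
  have hg : IsOpenImmersion.lift (Sigma.ι (fun _ : Fin n => Y) i) w hrange = g := by
    rw [← hw]
    conv_rhs => rw [← hl]
    rw [Category.assoc, Sigma.ι_desc, Category.comp_id]
  rw [← hg, hl]

theorem index_eq {T Y : Scheme.{u}} [Nonempty ↥T] {n : ℕ} (g : T ⟶ Y) {i j : Fin n}
    (h : g ≫ Sigma.ι (fun _ : Fin n => Y) i = g ≫ Sigma.ι (fun _ : Fin n => Y) j) : i = j := by
  obtain ⟨t⟩ := (inferInstance : Nonempty ↥T)
  by_contra hij
  have e := congrArg (fun f => f.base t) h
  exact (disjoint_opensRange_sigmaι (fun _ : Fin n => Y) i j hij).le_bot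
      (show (g ≫ Sigma.ι (fun _ : Fin n => Y) i).base t ∈
          (Sigma.ι (fun _ : Fin n => Y) i).opensRange ⊓ (Sigma.ι (fun _ : Fin n => Y) j).opensRange from
        ⟨⟨g.base t, rfl⟩, ⟨g.base t, e.symm⟩⟩)

theorem cancel_spec {A B : CommRingCat.{u}} {X : Scheme.{u}} [IsAffine X] (f : A ⟶ B)
    (hf : Function.Injective f.hom) {s₁ s₂ : Spec A ⟶ X} (h : Spec.map f ≫ s₁ = Spec.map f ≫ s₂) : s₁ = s₂ := by
  have : Mono f := ConcreteCategory.mono_of_injective f hf
  rw [← cancel_mono X.isoSpec.hom]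
  have h' := congrArg (fun z => z ≫ X.isoSpec.hom) h
  rw [Category.assoc, Category.assoc, ← Spec.map_preimage (s₁ ≫ X.isoSpec.hom),
    ← Spec.map_preimage (s₂ ≫ X.isoSpec.hom), ← Spec.map_comp, ← Spec.map_comp] at h'
  rw [← Spec.map_preimage (s₁ ≫ X.isoSpec.hom), ← Spec.map_preimage (s₂ ≫ X.isoSpec.hom),
    (cancel_mono f).1 (Spec.map_injective h')]

theorem exists_factor_spec {A B : CommRingCat.{u}} {X : Scheme.{u}} [IsAffine X] (f : A ⟶ B)
    (hf : Function.Injective f.hom) (σ : B ⟶ B) (hσ : ∀ b, σ b = b → b ∈ Set.range f.hom) (y : Spec B ⟶ X)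
    (hy : Spec.map σ ≫ y = y) : ∃ s : Spec A ⟶ X, Spec.map f ≫ s = y := by
  let a := Spec.preimage (y ≫ X.isoSpec.hom)
  have ha : a ≫ σ = a := Spec.map_injective (by
    rw [Spec.map_comp, Spec.map_preimage, ← Category.assoc, hy])
  have hmem : ∀ c, a c ∈ Set.range f.hom := fun c => hσ _ (ConcreteCategory.congr_hom ha c)
  let e : (A : Type u) ≃+* f.hom.range := RingEquiv.ofBijective f.hom.rangeRestrict
    ⟨fun x z hxz => hf (congrArg Subtype.val hxz), f.hom.rangeRestrict_surjective⟩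
  let b := CommRingCat.ofHom (e.symm.toRingHom.comp (a.hom.codRestrict f.hom.range hmem))
  have hb : b ≫ f = a := by
    ext c
    exact congrArg Subtype.val (e.apply_symm_apply ⟨a c, hmem c⟩)
  refine ⟨Spec.map b ≫ X.isoSpec.inv, ?_⟩
  rw [← Category.assoc, ← Spec.map_comp, hb, Spec.map_preimage, Category.assoc, Iso.hom_inv_id, Category.comp_id]

/-- S15766. -/
theorem main [HenselianLocalRing R] [IsSepClosed (IsLocalRing.ResidueField R)]
    (d : ℕ) (hd : 0 < d) (hdu : IsUnit (d : R))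
    (hinj : Function.Injective (AddMonoidHom.mulLeft (d : ℤ)))
    (hmono : ∀ g g' : ℤ, AddMonoidHom.mulLeft (d : ℤ) g ≤ AddMonoidHom.mulLeft (d : ℤ) g' ↔ g ≤ g')
    (ρ : LaurentSeries R →+* LaurentSeries (IsLocalRing.ResidueField R))
    (hρ : ρ.comp (HahnSeries.ofPowerSeries ℤ R) =
      (HahnSeries.ofPowerSeries ℤ (IsLocalRing.ResidueField R)).comp (PowerSeries.map (IsLocalRing.residue R)))
    (X : Scheme.{u}) (p : X ⟶ Spec (CommRingCat.of (LaurentSeries R))) [IsFinite p]
    (hsplit : ∃ (n : ℕ) (e : pullback p (Spec.map (CommRingCat.ofHom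
        (HahnSeries.embDomainRingHom (R := R) (AddMonoidHom.mulLeft (d : ℤ)) hinj hmono))) ≅
        (∐ fun _ : Fin n => Spec (CommRingCat.of (LaurentSeries R)))),
      e.hom ≫ Sigma.desc (fun _ : Fin n => 𝟙 (Spec (CommRingCat.of (LaurentSeries R)))) =
        pullback.snd p (Spec.map (CommRingCat.ofHom
          (HahnSeries.embDomainRingHom (R := R) (AddMonoidHom.mulLeft (d : ℤ)) hinj hmono)))) :
    (∀ s₁ s₂ : Spec (CommRingCat.of (LaurentSeries R)) ⟶ X,
        s₁ ≫ p = 𝟙 _ → s₂ ≫ p = 𝟙 _ →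
        Spec.map (CommRingCat.ofHom ρ) ≫ s₁ = Spec.map (CommRingCat.ofHom ρ) ≫ s₂ → s₁ = s₂) ∧
    (∀ s' : Spec (CommRingCat.of (LaurentSeries (IsLocalRing.ResidueField R))) ⟶ X,
        s' ≫ p = Spec.map (CommRingCat.ofHom ρ) →
        ∃ s : Spec (CommRingCat.of (LaurentSeries R)) ⟶ X, s ≫ p = 𝟙 _ ∧ Spec.map (CommRingCat.ofHom ρ) ≫ s = s') := by
  classical
  let k := IsLocalRing.ResidueField R
  haveI : IsAffine X := isAffine_of_isAffineHom p
  let K := CommRingCat.of (LaurentSeries R)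
  let K' := CommRingCat.of (LaurentSeries k)
  let emb : K ⟶ K := CommRingCat.ofHom (HahnSeries.embDomainRingHom (R := R) (AddMonoidHom.mulLeft (d : ℤ)) hinj hmono)
  let emb' : K' ⟶ K' := CommRingCat.ofHom (HahnSeries.embDomainRingHom (R := k) (AddMonoidHom.mulLeft (d : ℤ)) hinj hmono)
  let φ : K ⟶ K' := CommRingCat.ofHom ρ
  have hembi : Function.Injective emb.hom := fun x z hxz => HahnSeries.embDomain_injective hxz
  have hembi' : Function.Injective emb'.hom := fun x z hxz => HahnSeries.embDomain_injective hxz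
  have hemb : ∀ {A : Type u} [CommRing A] (x : LaurentSeries A) (m : ℤ),
      (HahnSeries.embDomainRingHom (R := A) (AddMonoidHom.mulLeft (d : ℤ)) hinj hmono x).coeff ((d : ℤ) * m) = x.coeff m :=
    fun x m => HahnSeries.embDomain_coeff
  have hemb0 : ∀ {A : Type u} [CommRing A] (x : LaurentSeries A) (m : ℤ), ¬ (d : ℤ) ∣ m →
      (HahnSeries.embDomainRingHom (R := A) (AddMonoidHom.mulLeft (d : ℤ)) hinj hmono x).coeff m = 0 :=
    fun x m hm => HahnSeries.embDomain_of_notMem_range (by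
      rintro ⟨j, hj⟩
      exact hm ⟨j, hj.symm⟩)
  have hφ := coeff_map (IsLocalRing.residue R) ρ hρ
  have hcomm : emb ≫ φ = φ ≫ emb' := by
    refine CommRingCat.hom_ext (RingHom.ext fun x => HahnSeries.ext (funext fun m => ?_))
    show (ρ (HahnSeries.embDomainRingHom _ hinj hmono x)).coeff m =
      (HahnSeries.embDomainRingHom (R := k) _ hinj hmono (ρ x)).coeff m
    rw [hφ]
    by_cases hm : (d : ℤ) ∣ m
    · obtain ⟨j, rfl⟩ := hm
      rw [hemb, hemb, hφ]
    · rw [hemb0 _ _ hm, hemb0 _ _ hm, map_zero]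
  -- a primitive root of unity
  have hdk : (d : k) ≠ 0 := by
    rw [← map_natCast (IsLocalRing.residue R)]
    exact (hdu.map _).ne_zero
  haveI : NeZero (d : k) := ⟨hdk⟩
  obtain ⟨η, hη⟩ := HasEnoughRootsOfUnity.exists_primitiveRoot k d
  obtain ⟨η₀, rfl⟩ := IsLocalRing.residue_surjective η
  obtain ⟨z, hz, hzr⟩ := HenselianLocalRing.is_henselian (Polynomial.X ^ d - 1 : Polynomial R)
    (Polynomial.monic_X_pow_sub_C 1 hd.ne') η₀
    (by
      rw [← IsLocalRing.residue_eq_zero_iff]
      simp [hη.pow_eq_one])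
    (by
      have h0 : IsUnit η₀ := by
        rw [← IsLocalRing.residue_ne_zero_iff_isUnit]
        exact hη.ne_zero hd.ne'
      simpa [Polynomial.derivative_pow] using hdu.mul (h0.pow (d - 1)))
  have hzd : z ^ d = 1 := by
    have := hz
    simpa [Polynomial.IsRoot, sub_eq_zero] using this
  let ζ : Rˣ := Units.ofPowEqOne z d hzd hd.ne'
  have hζd : ζ ^ d = 1 := Units.pow_ofPowEqOne hzd hd.ne'
  let ζ' : kˣ := Units.map (IsLocalRing.residue R).toMonoidHom ζ
  have hζ' : IsPrimitiveRoot ζ' d := by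
    rw [← IsPrimitiveRoot.coe_units_iff]
    show IsPrimitiveRoot (IsLocalRing.residue R z) d
    rwa [show IsLocalRing.residue R z = IsLocalRing.residue R η₀ from sub_eq_zero.1 (by
      rw [← map_sub]; exact (IsLocalRing.residue_eq_zero_iff _).2 hzr)]
  let σ : K ⟶ K := CommRingCat.ofHom (twist ζ)
  let σ' : K' ⟶ K' := CommRingCat.ofHom (twist ζ')
  have hσemb : ∀ {A : Type u} [CommRing A] (η : Aˣ), η ^ d = 1 → ∀ x : LaurentSeries A,
      twist η (HahnSeries.embDomainRingHom (R := A) (AddMonoidHom.mulLeft (d : ℤ)) hinj hmono x) =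
        HahnSeries.embDomainRingHom (R := A) (AddMonoidHom.mulLeft (d : ℤ)) hinj hmono x := by
    intro A _ η hη x
    ext m
    rw [coeff_twist]
    by_cases hm : (d : ℤ) ∣ m
    · obtain ⟨j, rfl⟩ := hm
      rw [zpow_mul, zpow_natCast, hη, one_zpow, Units.val_one, one_mul]
    · rw [hemb0 _ _ hm, mul_zero]
  have hσ : emb ≫ σ = emb := CommRingCat.hom_ext (RingHom.ext fun x => hσemb ζ hζd x)
  have hσ' : emb' ≫ σ' = emb' := CommRingCat.hom_ext (RingHom.ext fun x => hσemb ζ' hζ'.pow_eq_one x)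
  have hσφ : σ ≫ φ = φ ≫ σ' := by
    refine CommRingCat.hom_ext (RingHom.ext fun x => HahnSeries.ext (funext fun m => ?_))
    show (ρ (twist ζ x)).coeff m = (twist ζ' (ρ x)).coeff m
    rw [hφ, coeff_twist, coeff_twist, hφ, map_mul, ← map_zpow]
    rfl
  have hfix : ∀ x : K, σ x = x → x ∈ Set.range emb.hom := by
    intro x hx
    have hx0 : ∀ m : ℤ, ¬ (d : ℤ) ∣ m → x.coeff m = 0 := by
      intro m hm
      have h1 : ↑(ζ ^ m) * x.coeff m = x.coeff m := congrArg (fun z => HahnSeries.coeff z m) hx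
      have hu : IsUnit ((↑(ζ ^ m) : R) - 1) := by
        rw [← IsLocalRing.residue_ne_zero_iff_isUnit, map_sub, map_one, sub_ne_zero]
        intro h
        refine hm ((hζ'.zpow_eq_one_iff_dvd m).1 (Units.ext ?_))
        rw [← map_zpow]
        exact h
      exact (hu.mul_right_eq_zero).1 (by rw [sub_mul, one_mul, h1, sub_self])
    have hd0 : (d : ℤ) ≠ 0 := by omega
    refine ⟨⟨fun j => x.coeff ((d : ℤ) * j), ?_⟩, HahnSeries.ext (funext fun m => ?_)⟩
    · refine Set.IsWF.isPWO (Set.isWF_iff_no_descending_seq.2 fun g hg hmem => ?_)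
      exact (Set.isWF_iff_no_descending_seq.1 x.isPWO_support.isWF (fun i => (d : ℤ) * g i)
        (fun a b hab => by
          have := hg hab
          exact mul_lt_mul_of_pos_left this (by omega))) fun i => hmem i
    · by_cases hm : (d : ℤ) ∣ m
      · obtain ⟨j, rfl⟩ := hm
        exact hemb _ _
      · exact (hemb0 _ _ hm).trans (hx0 m hm).symm
  -- points
  obtain ⟨n, e, he⟩ := hsplit
  let Y : Scheme.{u} := Spec K
  let y : Fin n → (Y ⟶ X) := fun i => Sigma.ι (fun _ : Fin n => Y) i ≫ e.inv ≫ pullback.fst p (Spec.map emb)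
  have hcl : ∀ {T : Scheme.{u}} [PreconnectedSpace ↥T] [Nonempty ↥T] (g : T ⟶ Y) (w : T ⟶ X),
      w ≫ p = g ≫ Spec.map emb → ∃ i, w = g ≫ y i := by
    intro T _ _ g w hw
    obtain ⟨i, hi⟩ := exists_index g (pullback.lift w g hw ≫ e.hom) (by
      rw [Category.assoc, he]; exact pullback.lift_snd _ _ _)
    refine ⟨i, ?_⟩
    have h2 := congrArg (fun z => z ≫ e.inv ≫ pullback.fst p (Spec.map emb)) hi
    rw [Category.assoc, e.hom_inv_id_assoc, pullback.lift_fst, Category.assoc] at h2
    exact h2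
  have hye : ∀ i, Sigma.ι (fun _ : Fin n => Y) i ≫ e.inv ≫ pullback.snd p (Spec.map emb) = 𝟙 Y := fun i => by
    rw [show pullback.snd p (Spec.map emb) = _ from he.symm, Iso.inv_hom_id_assoc, Sigma.ι_desc]
  have hyp : ∀ i, y i ≫ p = Spec.map emb := fun i => by
    simp only [y, Category.assoc, pullback.condition]
    rw [← Category.assoc e.inv, ← Category.assoc (Sigma.ι (fun _ : Fin n => Y) i), hye, Category.id_comp]
  have huniq : ∀ {T : Scheme.{u}} [Nonempty ↥T] (g : T ⟶ Y) (i j : Fin n), g ≫ y i = g ≫ y j → i = j := by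
    intro T _ g i j hij
    refine index_eq g ((cancel_mono e.inv).1 (pullback.hom_ext ?_ ?_))
    · simpa [y] using hij
    · simp only [Category.assoc]
      rw [hye, hye]
  haveI : PreconnectedSpace ↥Y := preconnectedSpace_spec fun a ha => eq_zero_or_one_of_idem a ha
  haveI : PreconnectedSpace ↥(Spec K') := preconnectedSpace_spec fun a ha => eq_zero_or_one_of_sq ha
  haveI : Nontrivial K := inferInstanceAs (Nontrivial (LaurentSeries R))
  haveI : Nontrivial K' := inferInstanceAs (Nontrivial (LaurentSeries k))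
  refine ⟨fun s₁ s₂ h₁ h₂ h => ?_, fun s' hs' => ?_⟩
  · obtain ⟨i, hi⟩ := hcl (𝟙 Y) (Spec.map emb ≫ s₁) (by rw [Category.assoc, h₁]; exact (Category.comp_id _).trans (Category.id_comp _).symm)
    obtain ⟨j, hj⟩ := hcl (𝟙 Y) (Spec.map emb ≫ s₂) (by rw [Category.assoc, h₂]; exact (Category.comp_id _).trans (Category.id_comp _).symm)
    rw [Category.id_comp] at hi hj
    have hij : i = j := huniq (Spec.map φ) i j (by
      rw [← hi, ← hj, ← Category.assoc, ← Category.assoc, ← Spec.map_comp, hcomm, Spec.map_comp, Category.assoc,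
        Category.assoc]
      exact congrArg (fun z => Spec.map emb' ≫ z) h)
    exact cancel_spec emb hembi (hi.trans (hij ▸ hj.symm))
  · have hw : (Spec.map emb' ≫ s') ≫ p = Spec.map φ ≫ Spec.map emb := by
      rw [Category.assoc, hs', ← Spec.map_comp, ← Spec.map_comp, ← hcomm]
    obtain ⟨i, hi⟩ := hcl (Spec.map φ) (Spec.map emb' ≫ s') hw
    obtain ⟨j, hj⟩ := hcl (𝟙 Y) (Spec.map σ ≫ y i) (by
      rw [Category.assoc, hyp, ← Spec.map_comp, hσ, Category.id_comp])
    rw [Category.id_comp] at hj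
    have hji : j = i := huniq (Spec.map φ) j i (by
      rw [← hj, ← Category.assoc, ← Spec.map_comp, hσφ, Spec.map_comp, Category.assoc, ← hi, ← Category.assoc,
        ← Spec.map_comp, hσ'])
    obtain ⟨s, hs⟩ := exists_factor_spec emb hembi σ hfix (y i) (hji ▸ hj)
    refine ⟨s, cancel_spec emb hembi (by rw [← Category.assoc, hs, hyp, Category.comp_id]), ?_⟩
    refine cancel_spec emb' hembi' ?_
    rw [← Category.assoc, ← Spec.map_comp]
    show Spec.map (φ ≫ emb') ≫ s = _
    rw [← hcomm, Spec.map_comp, Category.assoc, hs, hi]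

end Groth.Agent.Lib.LaurentTame
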